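import Mathlib
import Groth.Agent.Lib.Helper9.Misc.BLA8
import Groth.Agent.Lib.Lead.SC.CohDim
import Groth.Prelude.Def_CurvBase

/-! Lead: blow-ups of an affine scheme in an ideal generated by `n` elements are covered by `n`
affine charts; consequently quasi-coherent cohomology vanishes in degrees `≥ max n 1`. -/

set_option linter.style.haveILetI false
set_option linter.unusedSectionVars false
set_option linter.unusedVariables false

universe u
open CategoryTheory Limits AlgebraicGeometry TopologicalSpace Opposite

namespace Groth.Agent.LD.BL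

open Groth.Agent.H9.BLA

section
variable {A : Type u} [CommRing A] (I : Ideal A)

lemma deg1_zero (h : (0 : A) ∈ I) : deg1 I 0 h = 0 := by
  unfold deg1
  have : (⟨0, by simpa using h⟩ : ↥(I ^ 1)) = 0 := rfl
  rw [this, map_zero]

lemma deg1_add (x y : A) (hx : x ∈ I) (hy : y ∈ I) :
    deg1 I (x + y) (I.add_mem hx hy) = deg1 I x hx + deg1 I y hy := by
  unfold deg1
  rw [← map_add]
  rfl

lemma deg1_smul (c x : A) (hx : x ∈ I) :
    deg1 I (c • x) (I.smul_mem c hx) =
      DirectSum.of (fun n : ℕ => ↥(I ^ n)) 0 ⟨c, by simp⟩ * deg1 I x hx := by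
  refine eq_of_toA_eq I (n := 1) (deg1_mem I _ _) ?_ ?_
  · have := SetLike.mul_mem_graded (A := grading I) (of_mem_grading I 0 ⟨c, by simp⟩)
      (deg1_mem I x hx)
    simpa using this
  · rw [toA_deg1, map_mul, toA_of, toA_deg1]
    rfl

/-- if `s` generates `I`, the degree one elements attached to `s` generate the irrelevant ideal
up to radical (indeed on the nose). -/
theorem irrelevant_le_of_span (s : Set A) (hs : Ideal.span s = I) :
    (HomogeneousIdeal.irrelevant (grading I)).toIdeal ≤
      Ideal.span (Set.range fun b : {b // b ∈ s} =>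
        deg1 I b.1 (hs ▸ Ideal.subset_span b.2)) := by
  refine (irrelevant_le I).trans ?_
  rw [Ideal.span_le]
  rintro _ ⟨⟨a, ha⟩, rfl⟩
  change deg1 I a ha ∈ _
  subst hs
  induction ha using Submodule.span_induction with
  | mem x hx => exact Ideal.subset_span ⟨⟨x, hx⟩, rfl⟩
  | zero => rw [deg1_zero]; exact zero_mem _
  | add x y hx hy ihx ihy =>
    rw [deg1_add _ x y hx hy]
    exact Ideal.add_mem _ ihx ihy
  | smul c x hx ih =>
    rw [deg1_smul _ c x hx]
    exact Ideal.mul_mem_left _ _ ih

/-- the blow-up `Proj (⨁ Iⁿ)` is covered by the basic opens of the generators. -/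
theorem iSup_basicOpen_eq_top (s : Set A) (hs : Ideal.span s = I) :
    ⨆ b : {b // b ∈ s}, Proj.basicOpen (grading I) (deg1 I b.1 (hs ▸ Ideal.subset_span b.2)) = ⊤ :=
  Proj.iSup_basicOpen_eq_top (grading I) _ (irrelevant_le_of_span I s hs)

end

section
variable {A : Type u} [CommRing A] (I : Ideal A)

/-- **affine charts of a blow-up**: a blow-up of `Spec A` in an ideal generated by a finite set
`s` is a separated scheme covered by `#s` affine opens. -/
theorem exists_affine_cover {X : Scheme.{u}} (b : X ⟶ Spec (CommRingCat.of A))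
    (hb : BlowUp.IsBlowUp b (Curv2.idealSheaf A I)) (s : Finset A) (hs : Ideal.span (s : Set A) = I) :
    X.IsSeparated ∧ ∃ t : Finset X.Opens, t.card ≤ s.card ∧ (∀ W ∈ t, IsAffineOpen W) ∧
      t.sup id = ⊤ := by
  classical
  obtain ⟨ε, hε⟩ := exists_iso_of_isBlowUp hb (isBlowUp_blMap I)
  refine ⟨?_, ?_⟩
  · have : terminal.from X = ε.hom ≫ terminal.from (Bl I) := (terminal.hom_ext _ _)
    constructor
    rw [this]
    infer_instance
  · let V : A → X.Opens := fun a =>
      if h : a ∈ (s : Set A) then
        ε.hom ⁻¹ᵁ Proj.basicOpen (grading I) (deg1 I a (hs ▸ Ideal.subset_span h))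
      else ⊥
    refine ⟨s.image V, Finset.card_image_le, ?_, ?_⟩
    · intro W hW
      obtain ⟨a, ha, rfl⟩ := Finset.mem_image.mp hW
      have ha' : a ∈ (s : Set A) := ha
      simp only [V, dif_pos ha']
      exact (Proj.isAffineOpen_basicOpen (grading I) _ (deg1_mem I a _) Nat.one_pos).preimage_of_isIso
        ε.hom
    · rw [eq_top_iff]
      intro x _
      have hx : ε.hom x ∈ (⊤ : (Bl I).Opens) := trivial
      rw [← iSup_basicOpen_eq_top I (s : Set A) hs] at hx
      obtain ⟨⟨a, ha⟩, hxa⟩ := Opens.mem_iSup.mp hx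
      have hle : V a ≤ (s.image V).sup id :=
        Finset.le_sup (f := id) (Finset.mem_image_of_mem V ha)
      apply hle
      simp only [V, dif_pos ha]
      exact hxa

/-- **cohomological dimension of a blow-up**: on a blow-up of `Spec A` in an ideal generated by
`n` elements the cohomology of quasi-coherent modules vanishes in degrees `≥ max n 1`. -/
theorem subsingleton_HH_of_isBlowUp {X : Scheme.{u}} (b : X ⟶ Spec (CommRingCat.of A))
    (hb : BlowUp.IsBlowUp b (Curv2.idealSheaf A I)) (s : Finset A) (hs : Ideal.span (s : Set A) = I)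
    (M : X.Modules) [M.IsQuasicoherent] (p : ℕ) (hp : s.card ≤ p + 1) :
    Subsingleton (Coh.HH X M (p + 1)) := by
  obtain ⟨hsep, t, ht, haff, hsup⟩ := exists_affine_cover I b hb s hs
  haveI := hsep
  exact Groth.Agent.LD.SC.subsingleton_HH_of_affine_cover X M t haff hsup p (ht.trans hp)

end

end Groth.Agent.LD.BL
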