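import Groth.Agent.Lib.Lead.BL.TwoGen
import Groth.Agent.Lib.Lead.SC.QAffCrit
import Groth.Prelude.Def_Curv2

/-! Lead: `H¹` of globally generated quasi-coherent modules on the blow-up of an affine scheme in a
two-generated ideal vanishes (Mayer–Vietoris for the two charts + dévissage). -/

set_option linter.style.haveILetI false
set_option linter.unusedSectionVars false
set_option linter.unusedVariables false

universe u
open CategoryTheory Limits AlgebraicGeometry TopologicalSpace Opposite HomogeneousLocalization Abelian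

namespace Groth.Agent.LD.BL

open Groth.Agent.H9.BLA Groth.Agent.LD.SC Groth.Agent.LD.QC

section Transport

/-- transport of Čech surjectivity along an isomorphism of schemes. -/
lemma exists_add_of_iso {X Y : Scheme.{u}} (φ : X ⟶ Y) [IsIso φ] {U V W : Y.Opens}
    (hWU : W ≤ U) (hWV : W ≤ V)
    (h : ∀ s : Γ(Y, W), ∃ (a : Γ(Y, U)) (b : Γ(Y, V)),
      Y.presheaf.map (homOfLE hWU).op a + Y.presheaf.map (homOfLE hWV).op b = s)
    (hWU' : φ ⁻¹ᵁ W ≤ φ ⁻¹ᵁ U) (hWV' : φ ⁻¹ᵁ W ≤ φ ⁻¹ᵁ V)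
    (s : Γ(X, φ ⁻¹ᵁ W)) :
    ∃ (a : Γ(X, φ ⁻¹ᵁ U)) (b : Γ(X, φ ⁻¹ᵁ V)),
      X.presheaf.map (homOfLE hWU').op a + X.presheaf.map (homOfLE hWV').op b = s := by
  obtain ⟨s₀, rfl⟩ : ∃ s₀, (φ.app W).hom s₀ = s :=
    ((ConcreteCategory.isIso_iff_bijective (φ.app W)).mp inferInstance).2 s
  obtain ⟨a, b, rfl⟩ := h s₀
  refine ⟨(φ.app U).hom a, (φ.app V).hom b, ?_⟩
  rw [map_add]
  have h1 := congrArg (fun ψ => ψ.hom a) (φ.naturality (homOfLE hWU).op)
  have h2 := congrArg (fun ψ => ψ.hom b) (φ.naturality (homOfLE hWV).op)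
  simp only [CommRingCat.hom_comp, RingHom.coe_comp, Function.comp_apply] at h1 h2
  rw [h1, h2]
  rfl

end Transport

section H1

variable {A : Type u} [CommRing A] (I : Ideal A)
variable (x y : A) (hx : x ∈ I) (hy : y ∈ I) (hI : Ideal.span {x, y} = I)

include hx hy hI in
/-- `H¹(X, 𝒪_X) = 0` for the blow-up of `Spec A` in a two-generated ideal. -/
theorem subsingleton_ext_unit_of_isBlowUp_pair {X : Scheme.{u}} (b : X ⟶ Spec (CommRingCat.of A))
    (hb : BlowUp.IsBlowUp b (Curv2.idealSheaf A I)) :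
    Subsingleton (Ext (ZU (JX X) (⊤ : X.Opens)) (Coh.toAb (unitMod X)) 1) := by
  classical
  obtain ⟨ε, hε⟩ := exists_iso_of_isBlowUp hb (isBlowUp_blMap I)
  let f := deg1 I x hx
  let g := deg1 I y hy
  have hf : f ∈ grading I 1 := deg1_mem I x hx
  have hg : g ∈ grading I 1 := deg1_mem I y hy
  let U : X.Opens := ε.hom ⁻¹ᵁ Proj.basicOpen (grading I) f
  let V : X.Opens := ε.hom ⁻¹ᵁ Proj.basicOpen (grading I) g
  let W : X.Opens := ε.hom ⁻¹ᵁ Proj.basicOpen (grading I) (f * g)
  have hU : IsAffineOpen U :=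
    (Proj.isAffineOpen_basicOpen (grading I) _ hf Nat.one_pos).preimage_of_isIso ε.hom
  have hV : IsAffineOpen V :=
    (Proj.isAffineOpen_basicOpen (grading I) _ hg Nat.one_pos).preimage_of_isIso ε.hom
  have hWU₀ : Proj.basicOpen (grading I) (f * g) ≤ Proj.basicOpen (grading I) f :=
    Proj.basicOpen_mono (grading I) _ _ ⟨_, rfl⟩
  have hWV₀ : Proj.basicOpen (grading I) (f * g) ≤ Proj.basicOpen (grading I) g :=
    Proj.basicOpen_mono (grading I) _ _ ⟨_, mul_comm f g⟩
  have hWU : W ≤ U := fun p hp => hWU₀ hp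
  have hWV : W ≤ V := fun p hp => hWV₀ hp
  have h₁ : W = U ⊓ V := by
    change ε.hom ⁻¹ᵁ _ = ε.hom ⁻¹ᵁ _ ⊓ ε.hom ⁻¹ᵁ _
    rw [Proj.basicOpen_mul]
    rfl
  have h₄ : (⊤ : X.Opens) = U ⊔ V := by
    symm
    rw [eq_top_iff]
    intro p _
    have hp : ε.hom p ∈ (⊤ : (Bl I).Opens) := trivial
    rw [← iSup_basicOpen_eq_top I ({x, y} : Set A) hI] at hp
    obtain ⟨⟨a, ha⟩, hpa⟩ := Opens.mem_iSup.mp hp
    rcases ha with rfl | ha
    · exact Or.inl hpa
    · have : a = y := ha
      subst this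
      exact Or.inr hpa
  let sq : Square X.Opens :=
    { X₁ := W
      X₂ := U
      X₃ := V
      X₄ := ⊤
      f₁₂ := homOfLE hWU
      f₁₃ := homOfLE hWV
      f₂₄ := homOfLE le_top
      f₃₄ := homOfLE le_top
      fac := Subsingleton.elim _ _ }
  let S := Opens.mayerVietorisSquare' sq h₄ h₁
  refine subsingleton_of_forall_eq 0 fun ξ => ?_
  have hsU := subsingleton_ext_of_isAffineOpen (unitMod X) 0 U hU
  have hsV := subsingleton_ext_of_isAffineOpen (unitMod X) 0 V hV
  apply MV_eq_zero_one S (Coh.toAb (unitMod X)) ξ (@Subsingleton.elim _ hsU _ _)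
    (@Subsingleton.elim _ hsV _ _)
  intro t
  obtain ⟨a, b, hab⟩ := exists_add_of_iso ε.hom hWU₀ hWV₀
    (exists_section_add_section_eq (grading I) hf hg (adjoin_deg1_pair_eq_top I x y hx hy hI))
    hWU hWV t
  let b' : (Coh.toAb (unitMod X)).obj.obj (op S.X₃) := b
  refine ⟨a, -b', ?_⟩
  rw [map_neg, sub_neg_eq_add]
  exact hab

include hx hy hI in
/-- on the blow-up of `Spec A` in a two-generated ideal, a globally generated quasi-coherent module
has vanishing `H¹`. -/
theorem subsingleton_HH_one_of_globallyGenerated {X : Scheme.{u}}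
    (b : X ⟶ Spec (CommRingCat.of A)) (hb : BlowUp.IsBlowUp b (Curv2.idealSheaf A I))
    (F : X.Modules) [hF : F.IsQuasicoherent] (hgg : Curv2.IsGloballyGenerated F) :
    Subsingleton (Coh.HH X F 1) := by
  classical
  obtain ⟨ι, π, hπ⟩ := hgg
  have hs : Ideal.span ((({x, y} : Finset A) : Finset A) : Set A) = I := by
    rw [← hI]; congr 1; ext; simp
  obtain ⟨hsep, t, ht, haff, hsup⟩ := exists_affine_cover I b hb ({x, y} : Finset A) hs
  haveI := hsep
  haveI : CompactSpace X := by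
    rw [← isCompact_univ_iff]
    have : (Set.univ : Set X) = ⋃ W ∈ t, (W : Set X) := by
      have h := congrArg (fun W : X.Opens => (W : Set X)) hsup
      simp only [Opens.coe_top] at h
      rw [← h]
      ext p
      simp [Finset.sup_eq_iSup]
    rw [this]
    exact t.isCompact_biUnion fun W hW => (haff W hW).isCompact
  haveI : QuasiSeparatedSpace X := inferInstance
  let S : ShortComplex X.Modules := ShortComplex.mk (kernel.ι π) π (kernel.condition π)
  have hS : S.ShortExact :=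
    { exact := ShortComplex.exact_of_f_is_kernel S (kernelIsKernel _)
      mono_f := inferInstanceAs (Mono (kernel.ι π))
      epi_g := hπ }
  have hS' := shortExact_toSheaf hS
  have hK : (kernel π).IsQuasicoherent := qc_kernel π (qc_freeI ι) hF
  have h2 : Subsingleton (Ext (ZU (JX X) (⊤ : X.Opens)) (Coh.toAb (kernel π)) 2) := by
    haveI := @subsingleton_HH_of_isBlowUp A _ I X b hb ({x, y} : Finset A) hs (kernel π) hK 1
      (Finset.card_le_two)
    exact (HEquiv (J := JX X) CategoryTheory.Limits.isTerminalTop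
      (Coh.toAb (kernel π)) 2).symm.toEquiv.subsingleton
  have h1 := subsingleton_ext_freeI (X := X) ι 1
    (subsingleton_ext_unit_of_isBlowUp_pair I x y hx hy hI b hb)
  have h := subsingleton_ext_of_shortExact₃ (C := Sheaf (JX X) AddCommGrpCat.{u}) hS'
    (ZU (JX X) (⊤ : X.Opens)) 1 h1 h2
  exact subsingleton_H_of_subsingleton_ext (J := JX X) isTerminalTop (Coh.toAb F) 1 h

end H1

end Groth.Agent.LD.BL
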