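import Mathlib
import Groth.Agent.Lib.Helper9.Misc.BLA8
import Groth.Agent.Lib.Lead.BL.Charts

/-! Lead: the Rees algebra of a two-generated ideal `I = (x, y)`: it is generated over its degree
zero part by the two degree one elements, and the degree zero localisation at `x̃ ỹ` is the sum of
the images of the degree zero localisations at `x̃` and at `ỹ`. -/

set_option linter.style.haveILetI false
set_option linter.unusedSectionVars false
set_option linter.unusedVariables false

universe u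
open CategoryTheory Limits AlgebraicGeometry TopologicalSpace Opposite HomogeneousLocalization

namespace Groth.Agent.LD.BL

open Groth.Agent.H9.BLA

variable {A : Type u} [CommRing A] (I : Ideal A)

/-- degree zero elements lie in every `𝒜₀`-subalgebra. -/
lemma mem_subalgebra_of_mem_grading_zero (S : Subalgebra (grading I 0) (Rees I)) (z : Rees I)
    (hz : z ∈ grading I 0) : z ∈ S :=
  S.algebraMap_mem ⟨z, hz⟩

variable (x y : A) (hx : x ∈ I) (hy : y ∈ I) (hI : Ideal.span {x, y} = I)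

include hI in
lemma deg1_mem_adjoin (v : A) (hv : v ∈ I) :
    deg1 I v hv ∈ Algebra.adjoin (grading I 0) ({deg1 I x hx, deg1 I y hy} : Set (Rees I)) := by
  have hv' : v ∈ Ideal.span {x, y} := hI ▸ hv
  obtain ⟨c, d, hcd⟩ := Ideal.mem_span_pair.mp hv'
  have e : deg1 I v hv = DirectSum.of (fun n : ℕ => ↥(I ^ n)) 0 ⟨c, by simp⟩ * deg1 I x hx +
      DirectSum.of (fun n : ℕ => ↥(I ^ n)) 0 ⟨d, by simp⟩ * deg1 I y hy := by
    rw [← deg1_smul I c x hx, ← deg1_smul I d y hy, ← deg1_add]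
    congr 1
    simpa [smul_eq_mul] using hcd.symm
  rw [e]
  refine Subalgebra.add_mem _ (Subalgebra.mul_mem _ ?_ ?_) (Subalgebra.mul_mem _ ?_ ?_)
  · exact mem_subalgebra_of_mem_grading_zero I _ _ (of_mem_grading I 0 _)
  · exact Algebra.subset_adjoin (by simp)
  · exact mem_subalgebra_of_mem_grading_zero I _ _ (of_mem_grading I 0 _)
  · exact Algebra.subset_adjoin (by simp)

include hI in
lemma mem_adjoin_of_mem_grading : ∀ (n : ℕ) (z : Rees I), z ∈ grading I n →
    z ∈ Algebra.adjoin (grading I 0) ({deg1 I x hx, deg1 I y hy} : Set (Rees I)) := by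
  intro n
  induction n with
  | zero => exact fun z hz => mem_subalgebra_of_mem_grading_zero I _ z hz
  | succ m ih =>
    intro z hz
    have hc : toA I z ∈ I ^ m * I := by
      have := toA_mem I hz
      rwa [pow_succ] at this
    suffices h : toA I z ∈ I ^ (m + 1) ∧ ∀ w ∈ grading I (m + 1), toA I w = toA I z →
        w ∈ Algebra.adjoin (grading I 0) ({deg1 I x hx, deg1 I y hy} : Set (Rees I)) from
      h.2 z hz rfl
    generalize toA I z = c at hc
    refine Submodule.mul_induction_on hc ?_ ?_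
    · intro u hu v hv
      refine ⟨by rw [pow_succ]; exact Ideal.mul_mem_mul hu hv, ?_⟩
      intro w hw hwc
      have hw' : w = DirectSum.of (fun n : ℕ => ↥(I ^ n)) m ⟨u, hu⟩ * deg1 I v hv := by
        refine eq_of_toA_eq I hw ?_ ?_
        · exact SetLike.mul_mem_graded (of_mem_grading I m _) (deg1_mem I v hv)
        · rw [hwc, map_mul, toA_of, toA_deg1]
      rw [hw']
      exact Subalgebra.mul_mem _ (ih _ (of_mem_grading I m _)) (deg1_mem_adjoin I x y hx hy hI v hv)
    · intro c₁ c₂ h₁ h₂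
      refine ⟨Ideal.add_mem _ h₁.1 h₂.1, ?_⟩
      intro w hw hwc
      have hw' : w = DirectSum.of (fun n : ℕ => ↥(I ^ n)) (m + 1) ⟨c₁, h₁.1⟩ +
          DirectSum.of (fun n : ℕ => ↥(I ^ n)) (m + 1) ⟨c₂, h₂.1⟩ := by
        refine eq_of_toA_eq I hw ?_ ?_
        · exact (grading I (m + 1)).add_mem (of_mem_grading I _ _) (of_mem_grading I _ _)
        · rw [hwc, map_add, toA_of, toA_of]
      rw [hw']
      exact Subalgebra.add_mem _ (h₁.2 _ (of_mem_grading I _ _) (toA_of I _ _))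
        (h₂.2 _ (of_mem_grading I _ _) (toA_of I _ _))

include hI in
/-- the Rees algebra of `(x, y)` is generated over its degree zero part by `x̃` and `ỹ`. -/
theorem adjoin_deg1_pair_eq_top :
    Algebra.adjoin (grading I 0) ({deg1 I x hx, deg1 I y hy} : Set (Rees I)) = ⊤ := by
  classical
  rw [eq_top_iff]
  intro z _
  rw [← DirectSum.sum_support_decompose (grading I) z]
  exact Subalgebra.sum_mem _ fun n _ =>
    mem_adjoin_of_mem_grading I x y hx hy hI n _ (SetLike.coe_mem _)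

section General

variable {R : Type*} [CommRing R] {σ : Type*} [SetLike σ R] [AddSubgroupClass σ R]
  (𝒜 : ℕ → σ) [GradedRing 𝒜]

/-- If a graded ring is generated over its degree zero part by two degree one elements `f`, `g`,
then every element of `𝒜_(fg)` is a sum of an element of `𝒜_(f)` and one of `𝒜_(g)`. -/
theorem exists_awayMap_add_awayMap_eq_of_adjoin {f g : R} (hf : f ∈ 𝒜 1) (hg : g ∈ 𝒜 1)
    (hadj : Algebra.adjoin (𝒜 0) ({f, g} : Set R) = ⊤)
    (z : Away 𝒜 (f * g)) :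
    ∃ (a : Away 𝒜 f) (b : Away 𝒜 g),
      awayMap 𝒜 hg rfl a + awayMap 𝒜 hf (mul_comm f g) b = z := by
  classical
  have hfg : f * g ∈ 𝒜 2 := SetLike.mul_mem_graded hf hg
  let φ₁ := (awayMapₐ 𝒜 hg (rfl : f * g = f * g)).toLinearMap
  let φ₂ := (awayMapₐ 𝒜 hf (mul_comm f g)).toLinearMap
  let M : Submodule (𝒜 0) (Away 𝒜 (f * g)) :=
    LinearMap.range φ₁ ⊔ LinearMap.range φ₂
  suffices hM : M = ⊤ by
    have hz : z ∈ M := hM ▸ Submodule.mem_top
    obtain ⟨p, ⟨a, rfl⟩, q, ⟨b, rfl⟩, hpq⟩ := Submodule.mem_sup.mp hz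
    exact ⟨a, b, hpq⟩
  let v : Fin 2 → R := ![f, g]
  have hv : Algebra.adjoin (𝒜 0) (Set.range v) = ⊤ := by
    have : Set.range v = {f, g} := by
      ext w
      simp only [v, Set.mem_range, Fin.exists_fin_two, Matrix.cons_val_zero, Matrix.cons_val_one,
        Set.mem_insert_iff, Set.mem_singleton_iff, eq_comm]
    rw [this]
    exact hadj
  have hvd : ∀ i, v i ∈ 𝒜 ((fun _ : Fin 2 => 1) i) := by
    intro i
    fin_cases i
    · exact hf
    · exact hg
  have hspan := Away.span_mk_prod_pow_eq_top (𝒜 := 𝒜) hfg v hv (fun _ => 1) hvd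
  rw [eq_top_iff, ← hspan, Submodule.span_le]
  rintro _ ⟨a, ai, hai, rfl⟩
  have hsum : ai 0 + ai 1 = 2 * a := by
    simpa [Fin.sum_univ_two, mul_comm] using hai
  by_cases hcase : a ≤ ai 0
  · -- `f^t / g^t`
    refine Submodule.mem_sup_right ⟨Away.mk 𝒜 hg (ai 0 - a) (f ^ (ai 0 - a))
      (SetLike.pow_mem_graded _ hf), ?_⟩
    change awayMap 𝒜 hf (mul_comm f g) _ = _
    rw [awayMap_mk]
    ext
    simp only [Away.val_mk, Fin.prod_univ_two, v, Matrix.cons_val_zero, Matrix.cons_val_one]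
    rw [Localization.mk_eq_mk_iff, Localization.r_iff_exists]
    refine ⟨1, ?_⟩
    simp only [OneMemClass.coe_one, one_mul]
    obtain ⟨t, ht⟩ := Nat.exists_eq_add_of_le hcase
    have h1 : ai 1 + t = a := by omega
    rw [ht, ← h1]
    have e : ai 1 + t + t - (ai 1 + t) = t := by omega
    rw [e]
    ring
  · -- `g^t / f^t`
    have hcase' : a ≤ ai 1 := by omega
    refine Submodule.mem_sup_left ⟨Away.mk 𝒜 hf (ai 1 - a) (g ^ (ai 1 - a))
      (SetLike.pow_mem_graded _ hg), ?_⟩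
    change awayMap 𝒜 hg rfl _ = _
    rw [awayMap_mk]
    ext
    simp only [Away.val_mk, Fin.prod_univ_two, v, Matrix.cons_val_zero, Matrix.cons_val_one]
    rw [Localization.mk_eq_mk_iff, Localization.r_iff_exists]
    refine ⟨1, ?_⟩
    simp only [OneMemClass.coe_one, one_mul]
    obtain ⟨t, ht⟩ := Nat.exists_eq_add_of_le hcase'
    have h1 : ai 0 + t = a := by omega
    rw [ht, ← h1]
    have e : ai 0 + t + t - (ai 0 + t) = t := by omega
    rw [e]
    ring

end General

section ProjLevel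

variable {R : Type u} [CommRing R] {σ : Type*} [SetLike σ R] [AddSubgroupClass σ R]
  (𝒜 : ℕ → σ) [GradedRing 𝒜]

/-- the two-chart Čech surjectivity on `Proj 𝒜`. -/
theorem exists_section_add_section_eq {f g : R} (hf : f ∈ 𝒜 1) (hg : g ∈ 𝒜 1)
    (hadj : Algebra.adjoin (𝒜 0) ({f, g} : Set R) = ⊤)
    (s : Γ(Proj 𝒜, Proj.basicOpen 𝒜 (f * g))) :
    ∃ (a : Γ(Proj 𝒜, Proj.basicOpen 𝒜 f)) (b : Γ(Proj 𝒜, Proj.basicOpen 𝒜 g)),
      (Proj 𝒜).presheaf.map (homOfLE (Proj.basicOpen_mono 𝒜 _ _ ⟨_, rfl⟩)).op a +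
      (Proj 𝒜).presheaf.map (homOfLE (Proj.basicOpen_mono 𝒜 _ _ ⟨_, mul_comm f g⟩)).op b = s := by
  have hfg : f * g ∈ 𝒜 2 := SetLike.mul_mem_graded hf hg
  have hiso : IsIso (Proj.awayToSection 𝒜 (f * g)) :=
    (Proj.basicOpenIsoAway 𝒜 (f * g) hfg (by norm_num)).isIso_hom
  obtain ⟨z, rfl⟩ : ∃ z, (Proj.awayToSection 𝒜 (f * g)).hom z = s :=
    ((ConcreteCategory.isIso_iff_bijective _).mp hiso).2 s
  obtain ⟨a, b, hab⟩ := exists_awayMap_add_awayMap_eq_of_adjoin 𝒜 hf hg hadj z
  refine ⟨(Proj.awayToSection 𝒜 f).hom a, (Proj.awayToSection 𝒜 g).hom b, ?_⟩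
  rw [← hab, map_add]
  have h1 := congrArg (fun φ => φ.hom a) (Proj.awayMap_awayToSection 𝒜 hg (rfl : f * g = f * g))
  have h2 := congrArg (fun φ => φ.hom b) (Proj.awayMap_awayToSection 𝒜 hf (mul_comm f g))
  simp only [CommRingCat.hom_comp, RingHom.coe_comp, Function.comp_apply,
    CommRingCat.hom_ofHom] at h1 h2
  rw [h1, h2]

end ProjLevel

end Groth.Agent.LD.BL
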